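import Cfsg.Agent.H464.RM.Tools_m3
import Cfsg.Agent.H14.InvTwoA
import Cfsg.Agent.H848.McLLocal
import Cfsg.Agent.H809.SylB
import Cfsg.Agent.H858.SidM22
import Cfsg.Agent.H858.SidM12
import Cfsg.Agent.QTNorm.SporM12
import Cfsg.Agent.QTNorm.SporM22S
import Cfsg.Agent.Prune
set_option linter.all false
prune_inst 0x7f00000000000000000000000000000000000000000000000000000000000000000000000000000000000000000000000000000000000000000000000000000000000000000000000000000000000000003fffffffffffffffffffffffffffbeffbdffffffff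
open scoped Cfsg.Agent.FastGrp

-- part: H555/RV/McL
section
/-!
# `McL` is not a `D_{2,7}`-group (helper555)
-/

set_option autoImplicit false

namespace Cfsg.Agent.H555.RV.McLRow

open Subgroup Cfsg Cfsg.Agent.H571.DExt Cfsg.Agent.H171.Odd

universe u

theorem iso : Spor.IsoMcL Spor.McL := ⟨MulEquiv.refl _⟩

theorem card : Nat.card Spor.McL = 898128000 := NotCT.Orders.mcl iso

theorem fin : Finite Spor.McL := Nat.finite_of_card_ne_zero (by rw [card]; norm_num)

theorem cent {x : Spor.McL} (hx : orderOf x = 7) : Nat.card (centralizer ({x} : Set Spor.McL)) = 14 := by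
  have := fin
  obtain ⟨y, hy, hc⟩ := Cfsg.Agent.H848.McLLocal.mcl_seven
  rw [← hc]
  exact card_cent_all (p := 7) (n := 128304000) (by norm_num) (by rw [card]) (by norm_num) hy hx

theorem seven : ¬ Dom ({2, 7} : Set ℕ) Spor.McL := by
  have := fin
  obtain ⟨-, hs, -, -⟩ := TypeM.FactsMcL.facts iso
  refine no2_of_odd (p := 7) (a := 7) (m := 1002375) (by norm_num) (by norm_num) (by rw [card]; norm_num)
    (by norm_num) (by norm_num) ?_ ?_ ?_
  · refine inv1_of_cent (a := 6) (b := 1) (w := 1) Nat.prime_two (by norm_num) (by rw [card]; norm_num)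
      (by rw [card]; norm_num) (fun k h1 h2 => ?_) (fun y hy hd => ?_)
    · obtain rfl : k = 1 := by omega
      norm_num
    · rw [cent hy] at hd
      norm_num at hd
  · intro x hx
    obtain ⟨e, n, he, -, hn, hN, hS, -⟩ := Cfsg.Agent.H848.McLLocal.data_of (S := Spor.McL) (r := 7) (by norm_num)
      (by rw [card]; norm_num) (by rw [card]; norm_num) hx
    refine cent_of_odd (e := e) ?_ hN
    rw [card, cent hx] at hS
    have he6 : e ∣ 6 := he
    have h6 : e ≤ 6 := Nat.le_of_dvd (by norm_num) he6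
    interval_cases e <;> omega
  · intro T hT hTi
    have hf : Fact (Nat.Prime 2) := ⟨Nat.prime_two⟩
    obtain ⟨P, hP⟩ := hT.exists_le_sylow
    have h1 : T = (P : Subgroup Spor.McL) := by
      have h2 := hT.toSylow hTi
      exact (hT.toSylow hTi).3 P.2 hP |>.symm
    rw [h1]
    exact Cfsg.Agent.H809.Syl.selfN_mcl iso P

end Cfsg.Agent.H555.RV.McLRow

namespace Cfsg.Agent.H555.RV

open Cfsg.Agent.H571.DExt

universe u

/-- **McL, `{2,7}`** -/
theorem no2_mcl_7 {S : Type u} [Group S] [Finite S] (h : Spor.IsoMcL S) : ¬ Dom ({2, 7} : Set ℕ) S := by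
  obtain ⟨e⟩ := h
  exact fun hD => McLRow.seven (dom_equiv e hD)

end Cfsg.Agent.H555.RV
end

-- part: H180/RV/Self
section
/-!
# `¬ D_{2,p}` for self-centralizing Sylow `p`-subgroups with odd automizer (helper180)

`no2_m12_11`, `no2_m22_7`, `no2_m22_11`, `no2_mcl_11`.
-/

set_option autoImplicit false

namespace Cfsg.Agent.H180.RV

open Subgroup Cfsg Cfsg.Agent.H571.DExt Cfsg.Agent.H171.Odd Cfsg.Agent.H555.RV

universe u

theorem no2_of_self {S : Type u} [Group S] [Finite S] {p a m : ℕ} (hp : p.Prime) (hp2 : p ≠ 2)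
    (hS : Nat.card S = 2 ^ a * p * m) (h2 : ¬ 2 ∣ m) (hm : ¬ p ∣ m) (ha : 1 ≤ a) (hpa : p - 1 < 2 ^ a)
    (hc : ∀ x : S, orderOf x = p → Nat.card (centralizer ({x} : Set S)) = p)
    (hn : ¬ 2 ∣ (2 ^ a * m) % p) (hself : QTNorm.SelfN S) : ¬ Dom ({2, p} : Set ℕ) S := by
  have hfp : Fact p.Prime := ⟨hp⟩
  have hf : Fact (Nat.Prime 2) := ⟨Nat.prime_two⟩
  have hpm : ¬ p ∣ 2 ^ a * m := by
    intro h
    rcases hp.dvd_mul.1 h with h | h
    · exact hp2 ((Nat.prime_dvd_prime_iff_eq hp Nat.prime_two).1 (hp.dvd_of_dvd_pow h))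
    · exact hm h
  have hS' : Nat.card S = p * (2 ^ a * m) := by rw [hS]; ring
  refine no2_of_odd hp hp2 hS h2 hm ?_ ?_ ?_
  · refine inv1_of_cent (a := 1) (b := 1) (w := a - 1) Nat.prime_two hp ?_ ?_ (fun k h1 h3 => ?_) (fun y hy hd => ?_)
    · rw [hS', show 1 + (a - 1) = a by omega]
      exact (Dvd.intro _ rfl : 2 ^ a ∣ 2 ^ a * m).trans (Dvd.intro_left p rfl)
    · rw [hS']
      intro h
      rw [pow_succ, pow_one] at h
      exact hpm (Nat.dvd_of_mul_dvd_mul_left hp.pos h)
    · obtain rfl : k = 1 := by omega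
      rw [pow_one, show a - 1 + 1 = a by omega]
      intro h
      have h4 := Nat.le_of_dvd (by have := hp.two_le; omega) h
      omega
    · rw [hc y hy, pow_one] at hd
      exact hp2 ((Nat.prime_dvd_prime_iff_eq Nat.prime_two hp).1 hd).symm
  · intro x hx
    refine cent_of_odd (e := (2 ^ a * m) % p) hn ?_
    rw [hc x hx]
    exact Cfsg.Agent.H217.Odm.norm_of_self_cent hp hS' (fun h => hpm (Nat.dvd_of_mod_eq_zero h)) hx (hc x hx)
  · intro T hT hTi
    obtain ⟨P, hP⟩ := hT.exists_le_sylow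
    have h1 : T = (P : Subgroup S) := (hT.toSylow hTi).3 P.2 hP |>.symm
    rw [h1]
    exact hself P

/-! ### `M12` -/

theorem m12 : ¬ Dom ({2, 11} : Set ℕ) Spor.M12 := by
  have hc : Nat.card Spor.M12 = 95040 := NotCT.Orders.m12 ⟨MulEquiv.refl _⟩
  have hfin : Finite Spor.M12 := Nat.finite_of_card_ne_zero (by rw [hc]; norm_num)
  exact no2_of_self (p := 11) (a := 6) (m := 135) (by norm_num) (by norm_num) (by rw [hc]; norm_num) (by norm_num)
    (by norm_num) (by norm_num) (by norm_num) (fun x hx => Cfsg.Agent.H858.SidM12.card_c11 x hx) (by norm_num)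
    (QTNorm.selfN_m12 ⟨MulEquiv.refl _⟩)

/-! ### `M22` -/

theorem m22_card : Nat.card Spor.M22 = 443520 := NotCT.Orders.m22 ⟨MulEquiv.refl _⟩

theorem m22_fin : Finite Spor.M22 := Nat.finite_of_card_ne_zero (by rw [m22_card]; norm_num)

theorem m22_c7 (x : Spor.M22) (hx : orderOf x = 7) : Nat.card (centralizer ({x} : Set Spor.M22)) = 7 := by
  have := m22_fin
  obtain ⟨x₀, hx₀, hc₀⟩ := H968.TwoM22.three.seven
  rw [Cfsg.Agent.H858.OdmRowM22.card_cent_all (n := 63360) (by norm_num) (by rw [m22_card]) (by norm_num) hx₀ hx]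
  refine le_antisymm hc₀ ?_
  have h1 : zpowers x₀ ≤ centralizer ({x₀} : Set Spor.M22) := zpowers_le.2 (mem_centralizer_singleton_iff.2 rfl)
  have h2 := Subgroup.card_le_of_le h1
  rwa [Nat.card_zpowers, hx₀] at h2

/-! ### `McL` -/

theorem mcl_eleven : ¬ Dom ({2, 11} : Set ℕ) Spor.McL := by
  have := McLRow.fin
  exact no2_of_self (p := 11) (a := 7) (m := 637875) (by norm_num) (by norm_num) (by rw [McLRow.card]; norm_num)
    (by norm_num) (by norm_num) (by norm_num) (by norm_num) (fun x hx => Cfsg.Agent.H848.McLLocal.card_eleven hx)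
    (by norm_num) (Cfsg.Agent.H809.Syl.selfN_mcl McLRow.iso)

/-! ### the rows -/

variable {S : Type u} [Group S] [Finite S]

/-- **M12, `{2,11}`** -/
theorem no2_m12_11 (h : Spor.IsoM12 S) : ¬ Dom ({2, 11} : Set ℕ) S := by
  obtain ⟨e⟩ := h
  exact fun hD => m12 (dom_equiv e hD)

/-- **McL, `{2,11}`** -/
theorem no2_mcl_11 (h : Spor.IsoMcL S) : ¬ Dom ({2, 11} : Set ℕ) S := by
  obtain ⟨e⟩ := h
  exact fun hD => mcl_eleven (dom_equiv e hD)

end Cfsg.Agent.H180.RV
end
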